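import Cfsg.Agent.J4NonLocal.UEleven.El
import Cfsg.Agent.J4NonLocal.UEleven.Data.Five
import Cfsg.Agent.J4Maximal.Base

/-!
The finite checks for the normaliser of an element of order 5 over the subgroup U₃(11):2.
-/

set_option autoImplicit false
set_option maxRecDepth 20000
set_option Elab.async false

namespace Cfsg.Lib.J4NonLocal.UEleven

open Cfsg.Lib.J4Cert Cfsg.Lib.J4Maximal

/-- The letters that normalise the element of order 5, with their exponents. -/
def fiveExp : List (ℕ × ℕ) := [(2, 1), (3, 4), (4, 1), (6, 1), (7, 4), (8, 2), (9, 1), (10, 1)]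

/-- The element of order 5 as a word. -/
def fW : List ℕ := List.replicate 8 2

theorem five_ok : (fiveExp.all fun e =>
    sameW pm ([e.1] ++ (List.replicate e.2 fW).flatten) (fW ++ [e.1])) = true := by decide +kernel

theorem five_ne : sameW pm fW [] = false := by decide +kernel

theorem plan_shape : five.shapeOK ptabs 11 = true := by decide +kernel
theorem plan_keys : five.keysOK ptabs = true := by decide +kernel
theorem plan_crt : five.crtOK ptabs 11 5 = true := by decide +kernel
theorem plan_low : ((five.fix ++ five.lef ++ five.rig).all fun w => w.all fun k => Nat.blt k 5) = true := by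
  decide +kernel
theorem plan_in : ([five.fix, five.lef, five.reps, five.rig].all fun L => L.all fun w =>
    w.all fun k => (fiveExp.map Prod.fst).elem k) = true := by decide +kernel
theorem plan_count : five.fix.length = 160 ∧ five.ents.length = 168 ∧ five.zeros.length = 1 := by decide +kernel

/-- The exact row of the prime 5. -/
def r5u : Row := ⟨5, [(2, 5), (5, 1)], 160, 0, 5⟩
/-- The exact row of the prime 11. -/
def r11u : Row := ⟨1331, [(2, 4), (5, 1), (11, 3)], 106480, 0, 121⟩

/-- The cofactor of the subgroup U₃(11):2. -/
def fkU : List (ℕ × ℕ) := [(2, 15), (3, 1), (7, 1), (23, 1), (29, 1), (31, 1), (43, 1)]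

theorem survivors_ok :
    survivors 141831360 fkU [r5u, r11u, r7 1, r23 1, r29, r31 1, r37, r43 0] = [1] := by decide +kernel

end Cfsg.Lib.J4NonLocal.UEleven
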