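import Cfsg.Agent.J4NonLocal.UEleven.El
import Cfsg.Agent.J4NonLocal.Unitary.Main
import Cfsg.Agent.J4NonLocal.Unitary.Ext
import Cfsg.Agent.J4Maximal.Arith

/-!
A subgroup U₃(11):2 of the fourth Janko group.
-/

set_option autoImplicit false
set_option maxRecDepth 20000
set_option synthInstance.maxSize 4000
set_option linter.style.haveILetI false
set_option Elab.async false

open scoped commutatorElement

namespace Cfsg.Lib.J4NonLocal.UEleven

open Cfsg Cfsg.Lib.J4Cert Subgroup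

/-- Repetitions of a letter. -/
def rp (k n : ℕ) : List ℕ := List.replicate n k

/-- The relations of the five letters, with letter 5 for the commutator. -/
def rels : List (List ℕ × List ℕ) :=
  [([5, 1, 0], [0, 1]), (rp 0 11, []), (rp 1 11, []), ([5, 0], [0, 5]), ([5, 1], [1, 5]), (rp 2 40, []), ([3, 3], []),
   ([3, 2, 3] ++ rp 2 11, []), ([2, 0], rp 0 5 ++ rp 1 6 ++ rp 5 7 ++ [2]), ([2, 1], rp 0 5 ++ rp 1 5 ++ rp 5 4 ++ [2]),
   ([3] ++ rp 5 6 ++ [3], rp 5 5 ++ rp 2 30 ++ [3] ++ rp 5 5),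
   ([3, 0] ++ rp 5 2 ++ [3], rp 0 9 ++ rp 1 5 ++ rp 5 2 ++ rp 2 13 ++ [3] ++ rp 0 9 ++ rp 1 6 ++ rp 5 3),
   ([3, 0] ++ rp 1 4 ++ rp 5 10 ++ [3], rp 1 5 ++ rp 5 5 ++ [2, 3] ++ rp 0 3 ++ rp 1 7),
   ([3] ++ rp 0 7 ++ rp 1 8 ++ [3], rp 0 4 ++ rp 1 10 ++ rp 5 1 ++ rp 2 29 ++ [3] ++ rp 0 5 ++ rp 1 5 ++ rp 5 3),
   ([4, 4], []), ([4, 0, 4], rp 0 5 ++ rp 1 8 ++ rp 5 2), ([4, 1, 4], rp 0 8 ++ rp 1 6 ++ rp 5 9),
   ([4, 2, 4], rp 2 11), ([4, 3, 4], [3])]

theorem rels_ok : (rels.all fun r => sameW pm r.1 r.2) = true := by decide +kernel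

theorem nontriv : sameW pm [0] [] = false := by decide +kernel

/-- The value of a pool letter. -/
noncomputable def g (k : ℕ) : Spor.J4 := P.el k

/-- The generators of U₃(11). -/
noncomputable def genK : Set Spor.J4 := {g 0, g 1, g 2, g 3}

/-- The subgroup U₃(11):2. -/
noncomputable def S : Subgroup Spor.J4 := closure (insert (g 4) genK)

theorem rel_all : g 5 = ⁅g 0, g 1⁆ ∧ Unitary.RelEleven (g 0) (g 1) (g 2) (g 3) ∧ g 4 * g 4 = 1 ∧
    ∀ k < 4, g 4 * g k * g 4 ∈ closure genK := by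
  have h := rels_ok
  simp only [List.all_eq_true] at h
  have e : ∀ r ∈ rels, P.ev r.1 = P.ev r.2 := fun r hr => P.ev_eq (h r hr)
  simp only [rels, List.forall_mem_cons, List.not_mem_nil, false_imp_iff, implies_true, and_true, rp, P.ev_append,
    P.ev_cons, P.ev_nil, P.ev_rep, mul_one, pow_one] at e
  obtain ⟨e0, e1, e2, e3, e4, e5, e6, e7, e8, e9, e10, e11, e12, e13, e14, e15, e16, e17, e18⟩ := e
  change g 5 * (g 1 * g 0) = g 0 * g 1 at e0
  have hz : ⁅g 0, g 1⁆ = g 5 := by rw [commutatorElement_def, ← e0]; group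
  refine ⟨hz.symm, ⟨e1, e2, ?_, ?_, e5, e6, ?_, ?_, ?_, ?_, ?_, ?_, ?_⟩, e14, fun k hk => ?_⟩
  all_goals try rw [hz]
  · exact e3
  · exact e4
  · simpa only [g, mul_assoc] using e7
  · simpa only [g, mul_assoc] using e8
  · simpa only [g, mul_assoc] using e9
  · simpa only [g, mul_assoc, pow_one] using e10
  · simpa only [g, mul_assoc, pow_one] using e11
  · simpa only [g, mul_assoc, pow_one] using e12
  · simpa only [g, mul_assoc, pow_one] using e13
  · have hg : ∀ i < 4, g i ∈ closure genK := fun i hi => subset_closure (by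
      interval_cases i <;> simp [genK])
    have h5 : g 5 ∈ closure genK := by
      rw [← hz, commutatorElement_def]
      exact mul_mem (mul_mem (mul_mem (hg 0 (by norm_num)) (hg 1 (by norm_num))) (inv_mem (hg 0 (by norm_num))))
        (inv_mem (hg 1 (by norm_num)))
    interval_cases k
    · rw [mul_assoc]
      exact e15 ▸ mul_mem (mul_mem (pow_mem (hg 0 (by norm_num)) _) (pow_mem (hg 1 (by norm_num)) _)) (pow_mem h5 _)
    · rw [mul_assoc]
      exact e16 ▸ mul_mem (mul_mem (pow_mem (hg 0 (by norm_num)) _) (pow_mem (hg 1 (by norm_num)) _)) (pow_mem h5 _)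
    · rw [mul_assoc]
      exact e17 ▸ pow_mem (hg 2 (by norm_num)) _
    · rw [mul_assoc]
      exact e18 ▸ hg 3 (by norm_num)

theorem exists_k : ∃ (F : Type) (_ : Field F) (_ : Fintype F), Fintype.card F = 121 ∧
    Nonempty (↥(closure genK) ≃* Cfsg.PSU 3 F 11) := by
  obtain ⟨F, hF, hF', hc, K, rfl, he⟩ := Unitary.exists_psu_eleven rel_all.2.1 (fun h => P.ev_ne_one nontriv ((P.ev_single 0).trans h))
  exact ⟨F, hF, hF', hc, he⟩

end Cfsg.Lib.J4NonLocal.UEleven
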