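import Cfsg.Agent.J4NonLocal.UEleven.Group
import Cfsg.Agent.J4NonLocal.UEleven.Checks
import Cfsg.Agent.J4NonLocal.Rows
import Cfsg.Agent.J4NonLocal.Normal
import Cfsg.Agent.Classical.Unitary.Matrix

/-!
The subgroup U₃(11):2 of the fourth Janko group is maximal.
-/

set_option autoImplicit false
set_option maxRecDepth 20000
set_option synthInstance.maxSize 4000
set_option linter.style.haveILetI false

namespace Cfsg.Lib.J4NonLocal.UEleven

open Cfsg Cfsg.Lib.J4Cert Cfsg.Lib.J4Maximal Subgroup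

attribute [local irreducible] mB tabs4 vt pm ptabs five rels

theorem card_psu_eleven {F : Type} [Field F] [Fintype F] (hF : Fintype.card F = 121) :
    Nat.card (Cfsg.PSU 3 F 11) = 70915680 := by
  have hF' : Fintype.card F = 11 ^ 2 := by rw [hF]; norm_num
  have hc := Cfsg.Lib.Classical.card_center_SU hF' (n := 3) (by norm_num)
  have h := Cfsg.Lib.Classical.card_SU_mul hF' (n := 3) (by norm_num)
  have e := Subgroup.card_eq_card_quotient_mul_card_subgroup (Subgroup.center (Cfsg.SU 3 F 11))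
  rw [hc] at e
  rw [e, show Cfsg.Lib.Classical.cardGUFormula 11 3 = (11 + 1) * (70915680 * 3) by
    simp [Cfsg.Lib.Classical.cardGUFormula, Finset.prod_range_succ]] at h
  have h' := Nat.eq_of_mul_eq_mul_left (by norm_num) h
  rw [show Nat.gcd 3 (11 + 1) = 3 by decide] at h'
  exact Nat.eq_of_mul_eq_mul_right (by norm_num) h'

theorem g_mem_K : ∀ k < 4, g k ∈ closure genK := fun k hk => subset_closure (by
  interval_cases k <;> simp [genK])

theorem g5_mem_K : g 5 ∈ closure genK := by
  rw [rel_all.1, commutatorElement_def]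
  exact mul_mem (mul_mem (mul_mem (g_mem_K 0 (by norm_num)) (g_mem_K 1 (by norm_num)))
    (inv_mem (g_mem_K 0 (by norm_num)))) (inv_mem (g_mem_K 1 (by norm_num)))

theorem g_mem_S : ∀ k < 5, g k ∈ S := fun k hk => by
  rcases Nat.lt_succ_iff_lt_or_eq.mp hk with h | rfl
  · exact closure_mono (Set.subset_insert _ _) (g_mem_K k h)
  · exact subset_closure (Set.mem_insert _ _)

/-- The element of order 5. -/
noncomputable def f5 : Spor.J4 := P.ev fW

theorem f5_order : orderOf f5 = 5 := by
  haveI : Fact (Nat.Prime 5) := ⟨by norm_num⟩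
  refine orderOf_eq_prime ?_ (P.ev_ne_one five_ne)
  rw [f5, fW, P.ev_rep, ← pow_mul]
  exact rel_all.2.1.t_pow

theorem f5_mem_K : f5 ∈ closure genK := by
  rw [f5, fW, P.ev_rep]
  exact pow_mem (g_mem_K 2 (by norm_num)) _

variable (E : Env)
include E

/-- The normaliser of the element of order 5 inside a proper subgroup containing U₃(11):2. -/
theorem inf_five {H : Subgroup Spor.J4} (hH : ∀ k < 5, g k ∈ H) (hne : H ≠ ⊤) :
    Nat.card ↥(H ⊓ normalizer (zpowers f5 : Set Spor.J4)) = 160 := by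
  haveI := finite_J4
  have hN : Nat.card ↥(normalizer (zpowers f5 : Set Spor.J4)) = 26880 :=
    E.norm 5 1 26880 (by simp) _ (by rw [Nat.card_zpowers, f5_order, pow_one])
  obtain ⟨h1, h2, h3⟩ := plan_count
  unfold f5 at hN ⊢
  have h := five.forced P (nM := 5) (by rw [pm_length]; exact plan_shape) plan_keys
    (by rw [pm_length]; exact plan_crt) plan_low (inside_of P five (P.normalizes five_ok) plan_in)
    (by rw [h1, h2, hN]) (H := H) hH (E.not_big hne)
  rw [h.1, h1, h3]

omit E in
theorem card_K : Nat.card (closure genK) = 70915680 := by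
  obtain ⟨F, hF, hF', hc, ⟨e⟩⟩ := exists_k
  rw [Nat.card_congr e.toEquiv, card_psu_eleven hc]

theorem not_top_of_card {H : Subgroup Spor.J4} {n : ℕ} (h : Nat.card H = n) (hn : n ≠ ordJ) : H ≠ ⊤ := fun e => by
  rw [e, card_top, E.card] at h
  exact hn h.symm

theorem sigma_not_mem : g 4 ∉ closure genK := by
  intro hs
  haveI := finite_J4
  haveI : Fact (Nat.Prime 5) := ⟨by norm_num⟩
  have hK := card_K
  have h160 := inf_five E (H := closure genK) (fun k hk => by
    rcases Nat.lt_succ_iff_lt_or_eq.mp hk with h | rfl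
    exacts [g_mem_K k h, hs]) (not_top_of_card E hK (by decide))
  obtain ⟨U, hU⟩ : ∃ U : Sylow 5 Spor.J4, (U : Subgroup Spor.J4) = zpowers f5 :=
    ⟨Sylow.ofCard _ (by rw [Nat.card_zpowers, f5_order, E.part (n := 1) (by norm_num) (by decide +kernel) (by decide +kernel), pow_one]),
      Sylow.coe_ofCard _ _⟩
  have h := mod_q (q := 5) (closure genK)
  rw [sylow_count (closure genK) U (hU.trans_le (zpowers_le.mpr f5_mem_K)), hU, h160, hK] at h
  norm_num at h

theorem exists_ext : ∃ K : Subgroup ↥S, K.Normal ∧ K.index = 2 ∧ Nonempty (↥K ≃* ↥(closure genK)) := by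
  refine Unitary.exists_index_two genK (g 4) (fun x hx => ?_) (by rw [rel_all.2.2.1]; exact one_mem _) (sigma_not_mem E)
  have hi : (g 4)⁻¹ = g 4 := inv_eq_of_mul_eq_one_right rel_all.2.2.1
  rw [hi]
  simp only [genK, Set.mem_insert_iff, Set.mem_singleton_iff] at hx
  rcases hx with rfl | rfl | rfl | rfl <;> exact rel_all.2.2.2 _ (by norm_num)

theorem card_S : Nat.card S = 141831360 := by
  haveI := finite_J4
  obtain ⟨K, -, hi, ⟨e⟩⟩ := exists_ext E
  rw [← K.card_mul_index, Nat.card_congr e.toEquiv, card_K, hi]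

theorem isCoatom_S : IsCoatom S := by
  classical
  haveI := finite_J4
  haveI : Fact (Nat.Prime 5) := ⟨by norm_num⟩
  haveI : Fact (Nat.Prime 11) := ⟨by norm_num⟩
  have hS := card_S E
  refine ⟨not_top_of_card E hS (by decide), fun M hM => ?_⟩
  by_contra hne
  have hMg : ∀ k < 5, g k ∈ M := fun k hk => hM.le (g_mem_S k hk)
  obtain ⟨U5, hU5⟩ : ∃ U : Sylow 5 Spor.J4, (U : Subgroup Spor.J4) = zpowers f5 :=
    ⟨Sylow.ofCard _ (by rw [Nat.card_zpowers, f5_order, E.part (n := 1) (by norm_num) (by decide +kernel) (by decide +kernel), pow_one]),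
      Sylow.coe_ofCard _ _⟩
  have s5 : r5u.Sound (Nat.card M) := by
    refine sound_exact (q := 5) U5 ?_ ?_ ?_ (by decide) rfl (mod_q M)
    · rw [hU5, zpowers_le]
      exact hM.le (closure_mono (Set.subset_insert _ _) f5_mem_K)
    · rw [hU5, Nat.card_zpowers, f5_order]; rfl
    · rw [hU5, inf_five E hMg hne]; rfl
  have hKS : closure genK ≤ S := closure_mono (Set.subset_insert _ _)
  obtain ⟨U, hUK⟩ := exists_sylow_le (q := 11) (M := closure genK)
    ((E.part (n := 3) (by norm_num) (by decide +kernel) (by decide +kernel))) (by rw [card_K]; norm_num)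
  have hU : (U : Subgroup Spor.J4) ≤ S := hUK.trans hKS
  have hUc := E.sylow_card (n := 3) (by decide +kernel) (by decide +kernel) U
  have hN : Nat.card ↥(normalizer ((U : Subgroup Spor.J4) : Set Spor.J4)) = 319440 :=
    E.norm 11 3 319440 (by simp) U hUc
  have hlow : Nat.card ↥(S ⊓ normalizer ((U : Subgroup Spor.J4) : Set Spor.J4)) = 106480 := by
    have hK := inf_norm_forced (card_K) U hUK (nf := r11.nf) (by simp [r11]; norm_num) (hN.trans (by decide)) hUc
      (v := 53240) (by decide +kernel)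
    obtain ⟨c, hc⟩ := hK ▸ low_of_le hKS U
    have hd : 53240 * c ∣ 53240 * 6 := by
      rw [← hc]
      exact (card_dvd_of_le inf_le_right).trans (dvd_of_eq (hN.trans (by norm_num)))
    have hdS := card_dvd_of_le (inf_le_left : S ⊓ normalizer ((U : Subgroup Spor.J4) : Set Spor.J4) ≤ S)
    have hm := mod_q (q := 11) S
    rw [sylow_count S U hU, hS, hc] at hm
    rw [hS, hc] at hdS
    have hc6 : c ≤ 6 := Nat.le_of_dvd (by norm_num) (Nat.dvd_of_mul_dvd_mul_left (by norm_num) hd)
    have key : ∀ c ≤ 6, 53240 * c ∣ 53240 * 6 → 141831360 / (53240 * c) % 11 = 1 → c = 2 := by decide +kernel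
    rw [hc, key c hc6 hd hm]
  have h1 : 106480 ∣ Nat.card ↥(M ⊓ normalizer ((U : Subgroup Spor.J4) : Set Spor.J4)) :=
    hlow ▸ low_of_le hM.le U
  have h2 : Nat.card ↥(M ⊓ normalizer ((U : Subgroup Spor.J4) : Set Spor.J4)) ∣ 319440 :=
    hN ▸ card_dvd_of_le inf_le_right
  have he : Nat.card ↥(M ⊓ normalizer ((U : Subgroup Spor.J4) : Set Spor.J4)) = 106480 := by
    obtain ⟨c, hc⟩ := h1
    rw [hc] at h2
    have hc3 : c ∣ 3 := Nat.dvd_of_mul_dvd_mul_left (by norm_num) (show 106480 * c ∣ 106480 * 3 by simpa using h2)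
    rcases (Nat.dvd_prime Nat.prime_three).mp hc3 with rfl | rfl
    · rw [hc, mul_one]
    · exfalso
      have hle : normalizer ((U : Subgroup Spor.J4) : Set Spor.J4) ≤ M := by
        have := eq_of_le_of_card_ge (H := M ⊓ normalizer ((U : Subgroup Spor.J4) : Set Spor.J4))
          (inf_le_right (a := M)) (by rw [hN, hc])
        exact inf_eq_right.mp this
      rcases hle.eq_or_lt with h | h
      · have := card_dvd_of_le hM.le
        rw [← h, hN, hS] at this
        norm_num at this
      · exact hne ((E.coatom U hUc).2 M h)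
  have s11 : r11u.Sound (Nat.card M) := by
    refine sound_exact (q := 11) U (hU.trans hM.le) hUc (he.trans (by decide)) (by decide) rfl (E.eleven M ?_)
    rw [← hUc]
    exact card_dvd_of_le (hU.trans hM.le)
  obtain ⟨k, hk, hMk⟩ := exists_index hM.le hS (fk := fkU) (by simp [fkU]; norm_num)
    (by rw [E.card]; decide +kernel) (rows := [r5u, r11u, r7 1, r23 1, r29, r31 1, r37, r43 0]) (by
      intro r hr
      simp only [List.mem_cons, List.not_mem_nil, or_false] at hr
      rcases hr with rfl | rfl | rfl | rfl | rfl | rfl | rfl | rfl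
      exacts [⟨by simp [r5u]; norm_num, s5⟩, ⟨by simp [r11u]; norm_num, s11⟩, ⟨by simp [r7]; norm_num, E.sound7 M⟩,
        ⟨by simp [r23]; norm_num, E.sound23 M⟩, ⟨by simp [r29]; norm_num, E.sound29 M⟩,
        ⟨by simp [r31]; norm_num, E.sound31 M⟩, ⟨by simp [r37]; norm_num, E.sound37 M⟩,
        ⟨by simp [r43]; norm_num, E.sound43 M⟩])
  rw [survivors_ok, List.mem_singleton] at hk
  subst hk
  exact hM.ne' (eq_of_index_one hM.le hS hMk)

theorem exists_maximal : ∃ M : Subgroup Spor.J4, IsCoatom M ∧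
    ∃ (K : Subgroup ↥M) (F : Type) (_ : Field F) (_ : Fintype F),
      Fintype.card F = 121 ∧ K.Normal ∧ K.index = 2 ∧ Nonempty (↥K ≃* Cfsg.PSU 3 F 11) := by
  obtain ⟨K, hn, hi, ⟨e⟩⟩ := exists_ext E
  obtain ⟨F, hF, hF', hc, ⟨f⟩⟩ := exists_k
  exact ⟨S, isCoatom_S E, K, F, hF, hF', hc, hn, hi, ⟨e.trans f⟩⟩

end Cfsg.Lib.J4NonLocal.UEleven
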